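import Mathlib
import Groth.Agent.ModModel.Basic
import Groth.Agent.FlatLocus.General
import Groth.Agent.FlatCrit.Basic

/-!
# Finitely presented flat modules over flat finitely presented algebras: flatness on fibres, syzygies
-/

set_option autoImplicit false

universe u

open TensorProduct Function

namespace Groth.Agent.FlatFibrePD

/-- Short exact sequences with cokernel flat over the base stay exact under base change. -/
theorem lTensor_injective_of_pushout {R₀ R S₀ S : Type u} [CommRing R₀] [CommRing R] [CommRing S₀] [CommRing S]
    [Algebra R₀ R] [Algebra R₀ S₀] [Algebra R₀ S] [Algebra R S] [Algebra S₀ S] [IsScalarTower R₀ R S]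
    [IsScalarTower R₀ S₀ S] [Algebra.IsPushout R₀ R S₀ S]
    {K P Q : Type u} [AddCommGroup K] [Module S₀ K] [Module R₀ K] [IsScalarTower R₀ S₀ K]
    [AddCommGroup P] [Module S₀ P] [Module R₀ P] [IsScalarTower R₀ S₀ P]
    [AddCommGroup Q] [Module S₀ Q] [Module R₀ Q] [IsScalarTower R₀ S₀ Q] [Module.Flat R₀ Q]
    {f : K →ₗ[S₀] P} {g : P →ₗ[S₀] Q} (hf : Injective f) (he : Exact f g) (hg : Surjective g) :
    Injective (f.lTensor S) := by
  have h : Injective ((f.restrictScalars R₀).lTensor R) :=
    (FlatCrit.TorZero.of_flat (R := R₀) (M := R) (Q := Q)).lTensor_injective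
      (f := f.restrictScalars R₀) (g := g.restrictScalars R₀) hf he hg
  let eK := Algebra.IsPushout.cancelBaseChange R₀ R S₀ S K
  let eP := Algebra.IsPushout.cancelBaseChange R₀ R S₀ S P
  have key : ∀ x, f.lTensor S (eK.symm x) = eP.symm ((f.restrictScalars R₀).lTensor R x) := by
    intro x
    induction x with
    | zero => simp
    | add x y hx hy => simp [hx, hy]
    | tmul r k => simp [eK, eP]
  intro x y hxy
  obtain ⟨x, rfl⟩ := eK.symm.surjective x
  obtain ⟨y, rfl⟩ := eK.symm.surjective y
  rw [key, key] at hxy
  exact congrArg eK.symm (h (eP.symm.injective hxy))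

/-- Base change of an exact sequence with flat cokernel. -/
theorem baseChange_shortExact {R₀ R S₀ S : Type u} [CommRing R₀] [CommRing R] [CommRing S₀] [CommRing S]
    [Algebra R₀ R] [Algebra R₀ S₀] [Algebra R₀ S] [Algebra R S] [Algebra S₀ S] [IsScalarTower R₀ R S]
    [IsScalarTower R₀ S₀ S] [Algebra.IsPushout R₀ R S₀ S]
    {K P Q : Type u} [AddCommGroup K] [Module S₀ K] [Module R₀ K] [IsScalarTower R₀ S₀ K]
    [AddCommGroup P] [Module S₀ P] [Module R₀ P] [IsScalarTower R₀ S₀ P]
    [AddCommGroup Q] [Module S₀ Q] [Module R₀ Q] [IsScalarTower R₀ S₀ Q] [Module.Flat R₀ Q]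
    {f : K →ₗ[S₀] P} {g : P →ₗ[S₀] Q} (hf : Injective f) (he : Exact f g) (hg : Surjective g) :
    Injective (f.baseChange S) ∧ Exact (f.baseChange S) (g.baseChange S) ∧ Surjective (g.baseChange S) :=
  ⟨lTensor_injective_of_pushout (R₀ := R₀) (R := R) hf he hg, lTensor_exact S he hg,
    LinearMap.lTensor_surjective S hg⟩

/-- The kernel of a surjection of flat modules is flat. -/
theorem flat_of_exact {A K F M : Type u} [CommRing A] [AddCommGroup K] [Module A K] [AddCommGroup F] [Module A F]
    [AddCommGroup M] [Module A M] [Module.Flat A F] [Module.Flat A M] (i : K →ₗ[A] F) (π : F →ₗ[A] M)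
    (hi : Injective i) (he : Exact i π) (hπ : Surjective π) : Module.Flat A K := by
  refine Module.Flat.iff_rTensor_preserves_injective_linearMap.mpr fun X Y _ _ _ _ j hj => ?_
  have h1 : Injective (i.lTensor X) := LinearMap.lTensor_injective_of_exact_of_flat π hπ i hi he X
  have h2 : Injective (j.rTensor F) := Module.Flat.rTensor_preserves_injective_linearMap j hj
  have h3 : i.lTensor Y ∘ₗ j.rTensor K = j.rTensor F ∘ₗ i.lTensor X := by
    rw [LinearMap.lTensor_comp_rTensor, LinearMap.rTensor_comp_lTensor]
  refine Injective.of_comp (f := i.lTensor Y) ?_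
  rw [← LinearMap.coe_comp, h3]
  exact h2.comp h1

variable (A B : Type u) [CommRing A] [CommRing B] [Algebra A B]
variable {M : Type u} [AddCommGroup M] [Module B M] [Module A M] [IsScalarTower A B M]

/-- A surjection from a finite free module whose kernel is finitely presented and flat over the base. -/
theorem exists_step [Algebra.FinitePresentation A B] [Module.Flat A B]
    [Module.FinitePresentation B M] [Module.Flat A M] :
    ∃ (r : ℕ) (π : (Fin r → B) →ₗ[B] M), Surjective π ∧ Module.FinitePresentation B (LinearMap.ker π) ∧
      Module.Flat A (LinearMap.ker π) := by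
  obtain ⟨R₀, _, _, S₀, _, _, _, _, _, _, M₀, _, _, _, _, _, _, f, hR, hS, hM, hflat, hpo, hbc⟩ :=
    ModModel.exists_model (R := A) (S := B) (M := M)
  have : Algebra.IsPushout R₀ A S₀ B := hpo
  have : IsNoetherianRing R₀ := Algebra.FiniteType.isNoetherianRing ℤ R₀
  have : IsNoetherianRing S₀ := Algebra.FiniteType.isNoetherianRing R₀ S₀
  obtain ⟨r, π₀, hπ₀⟩ := Module.Finite.exists_fin' S₀ M₀
  let K₀ := LinearMap.ker π₀
  have : Module.FinitePresentation S₀ K₀ := Module.finitePresentation_of_finite S₀ K₀
  obtain ⟨h1, h2, h3⟩ := baseChange_shortExact (R₀ := R₀) (R := A) (S := B)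
    (Subtype.val_injective : Injective K₀.subtype) (LinearMap.exact_subtype_ker_map π₀) hπ₀
  let e : B ⊗[S₀] (Fin r → S₀) ≃ₗ[B] (Fin r → B) := TensorProduct.piScalarRight S₀ B B (Fin r)
  let π : (Fin r → B) →ₗ[B] M := (hbc.equiv.toLinearMap ∘ₗ π₀.baseChange B) ∘ₗ e.symm.toLinearMap
  have hπ : Surjective π := (hbc.equiv.surjective.comp h3).comp e.symm.surjective
  let i : B ⊗[S₀] K₀ →ₗ[B] (Fin r → B) := e.toLinearMap ∘ₗ K₀.subtype.baseChange B
  have hi : Injective i := e.injective.comp h1
  have hker : LinearMap.range i = LinearMap.ker π := by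
    rw [LinearMap.range_comp, ← h2.linearMap_ker_eq]
    ext x
    simp only [Submodule.mem_map, LinearMap.mem_ker, π, LinearMap.comp_apply, LinearEquiv.coe_coe,
      LinearEquiv.map_eq_zero_iff]
    exact ⟨fun ⟨y, hy, hyx⟩ => by rw [← hyx, LinearEquiv.symm_apply_apply]; exact hy,
      fun hx => ⟨_, hx, e.apply_symm_apply x⟩⟩
  refine ⟨r, π, hπ, Module.FinitePresentation.of_equiv
    ((LinearEquiv.ofInjective i hi).trans (LinearEquiv.ofEq _ _ hker)), ?_⟩
  have hF : Module.Flat A (Fin r → B) := Module.Flat.trans A B (Fin r → B)
  exact flat_of_exact (A := A) ((LinearMap.ker π).subtype.restrictScalars A) (π.restrictScalars A)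
    Subtype.val_injective (LinearMap.exact_subtype_ker_map π) hπ

/-- The kernel of `X → κ(p) ⊗ X` consists of torsion when `p` kills `X`. -/
theorem isLocalizedModule_residueField {A : Type u} [CommRing A] (p : Ideal A) [p.IsPrime]
    {X : Type u} [AddCommGroup X] [Module A X] (hX : ∀ r ∈ p, ∀ x : X, r • x = 0) :
    IsLocalizedModule p.primeCompl (TensorProduct.mk A p.ResidueField X 1) := by
  let Ap := Localization.AtPrime p
  let g : Ap →ₗ[A] p.ResidueField := (IsScalarTower.toAlgHom A Ap p.ResidueField).toLinearMap
  have hg : Surjective g := IsLocalRing.residue_surjective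
  let ge := g.rTensor X
  have hge : Bijective ge := by
    refine ⟨?_, LinearMap.rTensor_surjective X hg⟩
    have he := rTensor_exact X (LinearMap.exact_subtype_ker_map g) hg
    have h0 : ∀ z, (LinearMap.ker g).subtype.rTensor X z = 0 := by
      intro z
      induction z with
      | zero => simp
      | add a b ha hb => rw [map_add, ha, hb, add_zero]
      | tmul k x =>
        rw [LinearMap.rTensor_tmul, Submodule.subtype_apply]
        obtain ⟨⟨r, s⟩, hrs⟩ := IsLocalization.mk'_surjective p.primeCompl (k : Ap)
        have hr : r ∈ p := by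
          have h1 : (k : Ap) ∈ IsLocalRing.maximalIdeal Ap :=
            (IsLocalRing.residue_eq_zero_iff _).mp k.2
          rw [← hrs] at h1
          exact (IsLocalization.AtPrime.mk'_mem_maximal_iff Ap p r s).mp h1
        have : (k : Ap) = r • IsLocalization.mk' Ap 1 s := by
          rw [← hrs, IsLocalization.smul_mk', mul_one]
        rw [this, TensorProduct.smul_tmul, hX r hr, TensorProduct.tmul_zero]
    rw [injective_iff_map_eq_zero]
    intro z hz
    obtain ⟨w, rfl⟩ := (he z).mp hz
    exact h0 w
  have h1 : IsLocalizedModule p.primeCompl (TensorProduct.mk A Ap X 1) :=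
    (isLocalizedModule_iff_isBaseChange p.primeCompl Ap _).mpr (TensorProduct.isBaseChange A X Ap)
  have : TensorProduct.mk A p.ResidueField X 1 =
      (LinearEquiv.ofBijective ge hge).toLinearMap ∘ₗ TensorProduct.mk A Ap X 1 := by
    ext x
    simp [ge, g]
  rw [this]
  infer_instance

section Fibre

attribute [local instance] Algebra.TensorProduct.rightAlgebra

variable {A B : Type u} [CommRing A] [CommRing B] [Algebra A B]
variable {M : Type u} [AddCommGroup M] [Module B M] [Module A M] [IsScalarTower A B M]

/-- Flatness of a module over a fibre ring is flatness for modules killed by the prime. -/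
theorem relFlat_of_fibre (p : Ideal A) [p.IsPrime] (q : Ideal B) [q.IsPrime]
    (hq : q.comap (algebraMap A B) = p)
    [Module.Flat (B ⊗[A] p.ResidueField) ((B ⊗[A] p.ResidueField) ⊗[B] M)] :
    FlatLocus.RelFlat A p B (LocalizedModule q.primeCompl M) := by
  let L := B ⊗[A] p.ResidueField
  let N := LocalizedModule q.primeCompl M
  intro X Y _ _ _ _ f hX hY hf
  let : Module A X := Module.compHom X (algebraMap A B)
  have : IsScalarTower A B X := IsScalarTower.of_compHom A B X
  let : Module A Y := Module.compHom Y (algebraMap A B)
  have : IsScalarTower A B Y := IsScalarTower.of_compHom A B Y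
  let eX := Algebra.IsPushout.cancelBaseChange A p.ResidueField B L X
  let eY := Algebra.IsPushout.cancelBaseChange A p.ResidueField B L Y
  have hlX : IsLocalizedModule p.primeCompl (TensorProduct.mk A p.ResidueField X 1) :=
    isLocalizedModule_residueField p fun r hr x => hX r hr x
  have hlY : IsLocalizedModule p.primeCompl (TensorProduct.mk A p.ResidueField Y 1) :=
    isLocalizedModule_residueField p fun r hr y => hY r hr y
  let f' : L ⊗[B] X →ₗ[L] L ⊗[B] Y := f.baseChange L
  have hf' : Injective f' := by
    have hi : Injective ((f.restrictScalars A).lTensor p.ResidueField) := by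
      have h := IsLocalizedModule.map_injective p.primeCompl (TensorProduct.mk A p.ResidueField X 1)
        (TensorProduct.mk A p.ResidueField Y 1) (f.restrictScalars A) hf
      have e : IsLocalizedModule.map p.primeCompl (TensorProduct.mk A p.ResidueField X 1)
          (TensorProduct.mk A p.ResidueField Y 1) (f.restrictScalars A) =
          (f.restrictScalars A).lTensor p.ResidueField := by
        refine IsLocalizedModule.ext p.primeCompl (TensorProduct.mk A p.ResidueField X 1)
          (IsLocalizedModule.map_units (TensorProduct.mk A p.ResidueField Y 1)) ?_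
        rw [IsLocalizedModule.map_comp]
        ext x
        simp
      rw [← e]; exact h
    have key : ∀ x, f' (eX.symm x) = eY.symm ((f.restrictScalars A).lTensor p.ResidueField x) := by
      intro x
      induction x with
      | zero => simp
      | add x y hx hy => simp [hx, hy]
      | tmul r k => simp [eX, eY, f']
    intro x y hxy
    obtain ⟨x, rfl⟩ := eX.symm.surjective x
    obtain ⟨y, rfl⟩ := eX.symm.surjective y
    rw [key, key] at hxy
    exact congrArg eX.symm (hi (eY.symm.injective hxy))
  have hM : Injective ((f'.restrictScalars B).lTensor M) :=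
    FlatCrit.lTensor_injective_of_flat_baseChange L f' hf'
  have hN : Injective ((f'.restrictScalars B).lTensor N) := by
    let eN : Localization q.primeCompl ⊗[B] M ≃ₗ[B] N :=
      ((LocalizedModule.equivTensorProduct q.primeCompl M).symm).restrictScalars B
    have hB : Injective (((f'.restrictScalars B).lTensor M).lTensor (Localization q.primeCompl)) :=
      Module.Flat.lTensor_preserves_injective_linearMap _ hM
    have hB' : Injective ((f'.restrictScalars B).lTensor (Localization q.primeCompl ⊗[B] M)) := by
      rw [LinearMap.lTensor_tensor, LinearMap.coe_comp, LinearMap.coe_comp]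
      exact ((LinearEquiv.injective _).comp hB).comp (LinearEquiv.injective _)
    have : (f'.restrictScalars B).lTensor N ∘ₗ eN.toLinearMap.rTensor _ =
        eN.toLinearMap.rTensor _ ∘ₗ (f'.restrictScalars B).lTensor _ := by
      rw [LinearMap.lTensor_comp_rTensor, LinearMap.rTensor_comp_lTensor]
    intro x y hxy
    obtain ⟨x, rfl⟩ := (LinearEquiv.rTensor (L ⊗[B] X) eN).surjective x
    obtain ⟨y, rfl⟩ := (LinearEquiv.rTensor (L ⊗[B] X) eN).surjective y
    refine congrArg _ (hB' ((LinearEquiv.rTensor (L ⊗[B] Y) eN).injective ?_))
    exact ((LinearMap.congr_fun this x).symm.trans hxy).trans (LinearMap.congr_fun this y)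
  let jX : X →ₗ[B] L ⊗[B] X := TensorProduct.mk B L X 1
  have hunit : ∀ c ∉ p, Bijective fun z : N => algebraMap A B c • z := by
    intro c hc
    have h := IsLocalizedModule.map_units (LocalizedModule.mkLinearMap q.primeCompl M)
      (⟨algebraMap A B c, fun h => hc (hq ▸ Ideal.mem_comap.mpr h)⟩ : q.primeCompl)
    rw [Module.End.isUnit_iff] at h
    exact h
  have hrel : Injective (jX.lTensor N) := by
    let W := N ⊗[B] X
    let eW := Algebra.IsPushout.cancelBaseChange A p.ResidueField B L W
    have hlW : IsLocalizedModule p.primeCompl (TensorProduct.mk A p.ResidueField W 1) :=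
      isLocalizedModule_residueField p fun r hr w => by
        rw [← algebraMap_smul B r w]
        induction w using TensorProduct.induction_on with
        | zero => simp
        | add a b ha hb => rw [smul_add, ha, hb, add_zero]
        | tmul n x =>
          rw [← TensorProduct.tmul_smul, show algebraMap A B r • x = 0 from hX r hr x, TensorProduct.tmul_zero]
    have hswap : ∀ z : W, TensorProduct.leftComm B N L X (jX.lTensor N z) = (1 : L) ⊗ₜ[B] z := by
      intro z
      induction z using TensorProduct.induction_on with
      | zero => simp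
      | add a b ha hb => simp [ha, hb, TensorProduct.tmul_add]
      | tmul n x => simp [jX]
    rw [injective_iff_map_eq_zero]
    intro z hz
    have h0 : TensorProduct.mk A p.ResidueField W 1 z = 0 := by
      have h1 : (1 : L) ⊗ₜ[B] z = 0 := by rw [← hswap, hz, map_zero]
      have := congrArg eW h1
      simpa [eW] using this
    obtain ⟨c, hc⟩ := (IsLocalizedModule.eq_zero_iff p.primeCompl _).mp h0
    let u : N ≃ₗ[B] N := LinearEquiv.ofBijective (algebraMap A B c • LinearMap.id) (hunit c c.2)
    apply (LinearEquiv.rTensor X u).injective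
    rw [map_zero]
    have hu : ∀ z : W, LinearEquiv.rTensor X u z = algebraMap A B c • z := by
      intro z
      induction z using TensorProduct.induction_on with
      | zero => simp
      | add a b ha hb => simp [ha, hb]
      | tmul n x =>
        show (algebraMap A B c • n) ⊗ₜ[B] x = algebraMap A B c • (n ⊗ₜ[B] x)
        exact (TensorProduct.smul_tmul' _ _ _).symm
    rw [hu, algebraMap_smul]
    exact hc
  have hcomm : (f'.restrictScalars B).lTensor N ∘ₗ jX.lTensor N =
      (TensorProduct.mk B L Y 1).lTensor N ∘ₗ f.lTensor N := by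
    rw [← LinearMap.lTensor_comp, ← LinearMap.lTensor_comp]
    congr 1
  refine Injective.of_comp (f := (TensorProduct.mk B L Y 1).lTensor N) ?_
  rw [← LinearMap.coe_comp, ← hcomm]
  exact hN.comp hrel

theorem flat_localized_of_flat [Module.Flat A M] (T : Submonoid B) : Module.Flat A (LocalizedModule T M) := by
  have h : Module.Flat A (Localization T ⊗[B] M) := by
    refine Module.Flat.iff_lTensor_preserves_injective_linearMap.mpr fun X Y _ _ _ _ j hj => ?_
    let g : M ⊗[A] X →ₗ[B] M ⊗[A] Y := TensorProduct.AlgebraTensorModule.lTensor B M j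
    have hg : Injective g := Module.Flat.lTensor_preserves_injective_linearMap j hj
    have hG : Injective (g.lTensor (Localization T)) :=
      Module.Flat.lTensor_preserves_injective_linearMap g hg
    let eX := TensorProduct.AlgebraTensorModule.assoc A B B (Localization T) M X
    let eY := TensorProduct.AlgebraTensorModule.assoc A B B (Localization T) M Y
    have key : ∀ z, eY (j.lTensor _ z) = g.lTensor _ (eX z) := by
      intro z
      induction z with
      | zero => simp
      | add a b ha hb => simp [ha, hb]
      | tmul a x =>
        induction a with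
        | zero => simp
        | add a b ha hb => simp only [TensorProduct.add_tmul, map_add, ha, hb]
        | tmul l m => simp [eX, eY, g]
    intro x y hxy
    exact eX.injective (hG (by rw [← key, ← key, hxy]))
  exact Module.Flat.of_linearEquiv ((LocalizedModule.equivTensorProduct T M).restrictScalars A)

/-- Flatness can be checked on the fibres. -/
theorem flat_of_fibres [Algebra.FinitePresentation A B] [Module.FinitePresentation B M] [Module.Flat A M]
    (h : ∀ (p : Ideal A) [p.IsPrime],
      Module.Flat (B ⊗[A] p.ResidueField) ((B ⊗[A] p.ResidueField) ⊗[B] M)) : Module.Flat B M := by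
  refine Module.flat_of_localized_maximal (R := B) M fun q _ => ?_
  cases subsingleton_or_nontrivial (LocalizedModule q.primeCompl M)
  · infer_instance
  · have := flat_localized_of_flat (A := A) (M := M) q.primeCompl
    have := h (q.comap (algebraMap A B))
    exact (FlatLocus.fibre_criterion (R := A) (S := B) (S' := B) (M := M) q
      (relFlat_of_fibre _ q rfl)).1

end Fibre

end Groth.Agent.FlatFibrePD
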