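import Mathlib
import Groth.Agent.FlatFibrePD.Basic

/-!
# Projective dimension of flat finitely presented modules on fibres
-/

set_option autoImplicit false

universe u

open TensorProduct Function CategoryTheory

namespace Groth.Agent.FlatFibrePD

attribute [local instance] Algebra.TensorProduct.rightAlgebra

theorem projectiveDimension_eq_of_forall {a b : WithBot ℕ∞} (h : ∀ n : ℕ, a < n ↔ b < n) : a = b := by
  suffices key : ∀ a b : WithBot ℕ∞, (∀ n : ℕ, a < n → b < n) → b ≤ a from
    le_antisymm (key b a fun n => (h n).2) (key a b fun n => (h n).1)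
  intro a b hab
  induction a with
  | bot =>
    have h0 := hab 0 (WithBot.bot_lt_coe _)
    induction b with
    | bot => exact le_rfl
    | coe b => exact absurd h0 (by simp)
  | coe a =>
    induction a with
    | top => exact le_top
    | coe a =>
      have h1 := hab (a + 1) (by exact_mod_cast Nat.lt_succ_self a)
      rw [Nat.cast_add, Nat.cast_one] at h1
      exact ENat.WithBot.lt_add_one_iff.mp h1

variable {A B : Type u} [CommRing A] [CommRing B] [Algebra A B] [Algebra.FinitePresentation A B] [Module.Flat A B]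

/-- The fibre of the syzygy is the syzygy of the fibre. -/
theorem fibre_step {M : Type u} [AddCommGroup M] [Module B M] [Module A M] [IsScalarTower A B M] [Module.Flat A M]
    {r : ℕ} (π : (Fin r → B) →ₗ[B] M) (hπ : Surjective π) (p : Ideal A) [p.IsPrime] (n : ℕ) :
    HasProjectiveDimensionLT (ModuleCat.of (B ⊗[A] p.ResidueField) ((B ⊗[A] p.ResidueField) ⊗[B] M)) (n + 2) ↔
      HasProjectiveDimensionLT
        (ModuleCat.of (B ⊗[A] p.ResidueField) ((B ⊗[A] p.ResidueField) ⊗[B] LinearMap.ker π)) (n + 1) := by
  let L := B ⊗[A] p.ResidueField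
  obtain ⟨h1, h2, h3⟩ := baseChange_shortExact (R₀ := A) (R := p.ResidueField) (S := L)
    (Subtype.val_injective : Injective (LinearMap.ker π).subtype) (LinearMap.exact_subtype_ker_map π) hπ
  have hS := LinearMap.shortExact_shortComplexKer h3
  let e : L ⊗[B] LinearMap.ker π ≃ₗ[L] LinearMap.ker (π.baseChange L) :=
    (LinearEquiv.ofInjective _ h1).trans (LinearEquiv.ofEq _ _ h2.linearMap_ker_eq.symm)
  have hF : Module.Projective L (L ⊗[B] (Fin r → B)) := inferInstance
  rw [hS.hasProjectiveDimensionLT_X₃_iff n ((IsProjective.iff_projective _).1 hF)]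
  let eI : ModuleCat.of L (L ⊗[B] LinearMap.ker π) ≅ ModuleCat.of L (LinearMap.ker (π.baseChange L)) :=
    e.toModuleIso
  exact ⟨fun _ => hasProjectiveDimensionLT_of_iso eI.symm _,
    fun _ => hasProjectiveDimensionLT_of_iso eI _⟩

/-- Projective dimension of a flat finitely presented module is tested on the fibres. -/
theorem hasProjectiveDimensionLT_succ_iff (n : ℕ) : ∀ (M : Type u) [AddCommGroup M] [Module B M] [Module A M]
    [IsScalarTower A B M] [Module.FinitePresentation B M] [Module.Flat A M],
    HasProjectiveDimensionLT (ModuleCat.of B M) (n + 1) ↔ ∀ (p : Ideal A) [p.IsPrime],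
      HasProjectiveDimensionLT (ModuleCat.of (B ⊗[A] p.ResidueField) ((B ⊗[A] p.ResidueField) ⊗[B] M)) (n + 1) := by
  induction n with
  | zero =>
    intro M _ _ _ _ _ _
    simp only [zero_add, ← projective_iff_hasProjectiveDimensionLT_one, ← IsProjective.iff_projective]
    refine ⟨fun _ p _ => inferInstance, fun h => ?_⟩
    have : Module.Flat B M := flat_of_fibres fun p _ => by
      have := h p
      infer_instance
    exact Module.Flat.projective_of_finitePresentation
  | succ n ih =>
    intro M _ _ _ _ _ _
    obtain ⟨r, π, hπ, hfp, hflat⟩ := exists_step A B (M := M)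
    have hS := LinearMap.shortExact_shortComplexKer hπ
    rw [hS.hasProjectiveDimensionLT_X₃_iff n ((IsProjective.iff_projective _).1 inferInstance)]
    refine (ih (LinearMap.ker π)).trans ?_
    exact forall₂_congr fun p _ => (fibre_step π hπ p n).symm

/-- A finite module with vanishing fibres vanishes. -/
theorem subsingleton_of_fibres {M : Type u} [AddCommGroup M] [Module B M] [Module.Finite B M]
    (h : ∀ (p : Ideal A) [p.IsPrime], Subsingleton ((B ⊗[A] p.ResidueField) ⊗[B] M)) : Subsingleton M := by
  rw [← Module.support_eq_empty_iff (R := B), Set.eq_empty_iff_forall_notMem]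
  intro q hq
  rw [Module.mem_support_iff_nontrivial_residueField_tensorProduct] at hq
  let p := q.asIdeal.comap (algebraMap A B)
  let φ : B ⊗[A] p.ResidueField →ₐ[B] q.asIdeal.ResidueField :=
    Algebra.TensorProduct.lift (Algebra.ofId B _)
      (Ideal.ResidueField.mapₐ p q.asIdeal (Algebra.ofId A B) rfl) fun _ _ => Commute.all _ _
  let g : ((B ⊗[A] p.ResidueField) ⊗[B] M) →ₗ[B] q.asIdeal.ResidueField ⊗[B] M := φ.toLinearMap.rTensor M
  have := h p
  have hz : ∀ z : q.asIdeal.ResidueField ⊗[B] M, z = 0 := by
    intro z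
    induction z with
    | zero => rfl
    | add a b ha hb => rw [ha, hb, add_zero]
    | tmul k m =>
      have h1 : ((1 : q.asIdeal.ResidueField) ⊗ₜ[B] m) = 0 := by
        have h2 : g ((1 : B ⊗[A] p.ResidueField) ⊗ₜ[B] m) = (1 : q.asIdeal.ResidueField) ⊗ₜ[B] m := by
          simp [g]
        rw [← h2, Subsingleton.elim ((1 : B ⊗[A] p.ResidueField) ⊗ₜ[B] m) 0, map_zero]
      calc k ⊗ₜ[B] m = k • ((1 : q.asIdeal.ResidueField) ⊗ₜ[B] m) := by
            rw [TensorProduct.smul_tmul', smul_eq_mul, mul_one]
        _ = 0 := by rw [h1, smul_zero]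
  exact not_nontrivial_iff_subsingleton.mpr ⟨fun a b => (hz a).trans (hz b).symm⟩ hq

theorem hasProjectiveDimensionLT_iff (n : ℕ) (M : Type u) [AddCommGroup M] [Module B M] [Module A M]
    [IsScalarTower A B M] [Module.FinitePresentation B M] [Module.Flat A M] :
    HasProjectiveDimensionLT (ModuleCat.of B M) n ↔ ∀ (p : Ideal A) [p.IsPrime],
      HasProjectiveDimensionLT (ModuleCat.of (B ⊗[A] p.ResidueField) ((B ⊗[A] p.ResidueField) ⊗[B] M)) n := by
  cases n with
  | succ n => exact hasProjectiveDimensionLT_succ_iff n M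
  | zero =>
    simp only [hasProjectiveDimensionLT_zero_iff_isZero, ModuleCat.isZero_iff_subsingleton]
    refine ⟨fun (_ : Subsingleton M) p _ => inferInstanceAs (Subsingleton (_ ⊗[B] M)), fun h => ?_⟩
    exact subsingleton_of_fibres (A := A) fun p _ => h p

theorem projectiveDimension_eq_iSup (M : Type u) [AddCommGroup M] [Module B M] [Module A M]
    [IsScalarTower A B M] [Module.FinitePresentation B M] [Module.Flat A M] :
    projectiveDimension (ModuleCat.of B M) = ⨆ p : PrimeSpectrum A, projectiveDimension
      (ModuleCat.of (B ⊗[A] p.asIdeal.ResidueField) ((B ⊗[A] p.asIdeal.ResidueField) ⊗[B] M)) := by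
  refine projectiveDimension_eq_of_forall fun n => ?_
  rw [projectiveDimension_lt_iff, hasProjectiveDimensionLT_iff (A := A) n M]
  cases n with
  | zero =>
    have h0 : ∀ x : WithBot ℕ∞, x < ((0 : ℕ) : WithBot ℕ∞) ↔ x = ⊥ := fun x => by
      induction x with
      | bot => simp
      | coe x => simp
    rw [h0, iSup_eq_bot]
    simp only [projectiveDimension_eq_bot_iff, ← hasProjectiveDimensionLT_zero_iff_isZero]
    exact ⟨fun h p => h p.asIdeal, fun h p hp => h ⟨p, hp⟩⟩
  | succ n =>
    rw [Nat.cast_succ, ENat.WithBot.lt_add_one_iff, iSup_le_iff]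
    simp only [projectiveDimension_le_iff]
    exact ⟨fun h p => h p.asIdeal, fun h p hp => h ⟨p, hp⟩⟩

end Groth.Agent.FlatFibrePD
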