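import Mathlib
import Groth.Agent.FlatLocus.General
import Groth.Prelude.Def_CAlgX

/-!
# Models of local algebras essentially of finite presentation
-/

set_option autoImplicit false
set_option synthInstance.maxHeartbeats 80000

universe u

open TensorProduct Function

namespace Groth.Agent.FlatFibrePD

variable {R : Type u} [CommRing R]

theorem finitePresentation_away {S : Type u} [CommRing S] [Algebra R S] [Algebra.FinitePresentation R S] (r : S) :
    Algebra.FinitePresentation R (Localization.Away r) :=
  have : Algebra.FinitePresentation S (Localization.Away r) := IsLocalization.Away.finitePresentation r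
  Algebra.FinitePresentation.trans R S _

/-- An algebra map from a finitely presented algebra into a localization lifts to a basic open. -/
theorem exists_lift_away {C S₂ S' : Type u} [CommRing C] [Algebra R C] [Algebra.FinitePresentation R C]
    [CommRing S₂] [Algebra R S₂] [CommRing S'] [Algebra R S'] [Algebra S₂ S'] [IsScalarTower R S₂ S']
    (T : Submonoid S₂) [IsLocalization T S'] (φ : C →ₐ[R] S') :
    ∃ t ∈ T, ∃ (ψ : C →ₐ[R] Localization.Away t) (ι : Localization.Away t →ₐ[R] S'),
      ι.comp ψ = φ ∧ (∀ x, ι (algebraMap S₂ (Localization.Away t) x) = algebraMap S₂ S' x) := by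
  classical
  obtain ⟨n, π, hπ, j, hj⟩ := Algebra.FinitePresentation.out (R := R) (A := C)
  choose a ha using fun i => IsLocalization.surj T (φ (π (MvPolynomial.X i)))
  let t₁ : T := ∏ i, (a i).2
  let mk : ∀ s : T, Localization.Away (s : S₂) →ₐ[R] S' := fun s =>
    { IsLocalization.Away.lift (s : S₂) (g := algebraMap S₂ S') (IsLocalization.map_units S' s) with
      commutes' := fun r => by
        simp [IsScalarTower.algebraMap_apply R S₂ (Localization.Away (s : S₂)),
          ← IsScalarTower.algebraMap_apply R S₂ S'] }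
  have hmk : ∀ (s : T) x, mk s (algebraMap S₂ _ x) = algebraMap S₂ S' x := fun s x =>
    IsLocalization.Away.lift_eq _ (IsLocalization.map_units S' s) x
  have hu : ∀ (s : T), t₁ ∣ s → ∀ i, IsUnit (algebraMap S₂ (Localization.Away (s : S₂)) ((a i).2 : T)) := by
    intro s hs i
    refine isUnit_of_dvd_unit ?_ (IsLocalization.Away.algebraMap_isUnit (s : S₂))
    exact map_dvd _ (map_dvd T.subtype ((Finset.dvd_prod_of_mem _ (Finset.mem_univ i)).trans hs))
  let g : ∀ s : T, t₁ ∣ s → MvPolynomial (Fin n) R →ₐ[R] Localization.Away (s : S₂) := fun s hs =>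
    MvPolynomial.aeval fun i => algebraMap S₂ _ (a i).1 * ((hu s hs i).unit⁻¹ : (Localization.Away (s : S₂))ˣ)
  have hg : ∀ s hs, (mk s).comp (g s hs) = φ.comp π := by
    intro s hs
    refine MvPolynomial.algHom_ext fun i => ?_
    apply (IsLocalization.map_units S' (a i).2).mul_right_cancel
    rw [AlgHom.comp_apply, AlgHom.comp_apply, ha i]
    conv_lhs => rw [← hmk s, ← map_mul, MvPolynomial.aeval_X, mul_assoc, IsUnit.val_inv_mul, mul_one]
    exact hmk s _
  -- kill the relations
  have hkill : ∀ k ∈ j, ∃ c : T, ∀ s : T, ∀ hs : t₁ ∣ s, c ∣ s → g s hs k = 0 := by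
    intro k hk
    obtain ⟨m, b, hb⟩ := IsLocalization.Away.surj (t₁ : S₂) (g t₁ dvd_rfl k)
    have h0 : algebraMap S₂ S' b = 0 := by
      rw [← hmk t₁, ← hb, map_mul, ← AlgHom.comp_apply, hg t₁ dvd_rfl, AlgHom.comp_apply,
        show π k = 0 from hj.le (Ideal.subset_span hk), map_zero, zero_mul]
    obtain ⟨c, hc⟩ := (IsLocalization.map_eq_zero_iff T S' b).mp h0
    refine ⟨c, fun s hs hcs => ?_⟩
    have hsu := IsLocalization.Away.algebraMap_isUnit (S := Localization.Away (s : S₂)) (s : S₂)
    let ρ : Localization.Away (t₁ : S₂) →+* Localization.Away (s : S₂) :=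
      IsLocalization.Away.lift (t₁ : S₂) (g := algebraMap S₂ _)
        (isUnit_of_dvd_unit (map_dvd _ (map_dvd T.subtype hs)) hsu)
    have hρ : ρ (g t₁ dvd_rfl k) = g s hs k := by
      have h : ρ.comp (g t₁ dvd_rfl).toRingHom = (g s hs).toRingHom := by
        refine MvPolynomial.ringHom_ext (fun r => ?_) fun i => ?_
        · simp [ρ, g, IsScalarTower.algebraMap_apply R S₂ (Localization.Away (t₁ : S₂)),
            IsScalarTower.algebraMap_apply R S₂ (Localization.Away (s : S₂))]
        · simp only [RingHom.comp_apply, AlgHom.toRingHom_eq_coe, RingHom.coe_coe, g, MvPolynomial.aeval_X, map_mul]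
          apply (hu s hs i).mul_right_cancel
          rw [mul_assoc, mul_assoc, IsUnit.val_inv_mul, mul_one]
          conv_lhs => rw [show algebraMap S₂ (Localization.Away (s : S₂)) ((a i).2 : T) =
            ρ (algebraMap S₂ _ ((a i).2 : T)) from (IsLocalization.Away.lift_eq _ _ _).symm, ← map_mul,
            IsUnit.val_inv_mul, map_one, mul_one]
          exact IsLocalization.Away.lift_eq _ _ _
      exact RingHom.congr_fun h k
    have hz : algebraMap S₂ (Localization.Away (s : S₂)) b = 0 := by
      apply (isUnit_of_dvd_unit (map_dvd (algebraMap S₂ (Localization.Away (s : S₂))) (map_dvd T.subtype hcs))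
        hsu).mul_left_cancel
      rw [mul_zero, ← map_mul]
      exact (congrArg _ hc).trans (map_zero _)
    have h1 := congrArg ρ hb
    rw [map_mul, map_pow, hρ, IsLocalization.Away.lift_eq, IsLocalization.Away.lift_eq, hz] at h1
    exact ((isUnit_of_dvd_unit (map_dvd _ (map_dvd T.subtype hs)) hsu).pow m).mul_left_eq_zero.mp h1
  choose c hc using hkill
  let s : T := t₁ * ∏ k ∈ j.attach, c k.1 k.2
  have hs : t₁ ∣ s := dvd_mul_right _ _
  have hker : ∀ k ∈ RingHom.ker π.toRingHom, g s hs k = 0 := by
    intro k hk
    rw [← hj] at hk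
    have hle : Ideal.span (j : Set (MvPolynomial (Fin n) R)) ≤ RingHom.ker (g s hs) :=
      Ideal.span_le.2 fun k hk => hc k hk s hs
        ((Finset.dvd_prod_of_mem (fun k : {x // x ∈ j} => c k.1 k.2) (Finset.mem_attach j ⟨k, hk⟩)).trans (dvd_mul_left _ _))
    exact hle hk
  let ψ : C →ₐ[R] Localization.Away (s : S₂) :=
    AlgHom.liftOfSurjective π hπ (g s hs) hker
  refine ⟨s, s.2, ψ, mk s, ?_, hmk s⟩
  refine AlgHom.ext fun x => ?_
  obtain ⟨x, rfl⟩ := hπ x
  rw [AlgHom.comp_apply, show ψ (π x) = g s hs x from AlgHom.liftOfSurjective_apply π hπ _ _ x,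
    ← AlgHom.comp_apply, hg s hs, AlgHom.comp_apply]

/-- A local ring which is a localization is the localization at a prime. -/
theorem isLocalization_comap_maximalIdeal {B L : Type u} [CommRing B] [CommRing L] [IsLocalRing L] [Algebra B L]
    (T : Submonoid B) [IsLocalization T L] :
    IsLocalization ((IsLocalRing.maximalIdeal L).comap (algebraMap B L)).primeCompl L := by
  refine IsLocalization.of_le T _ (fun t ht h => ?_) fun b hb => ?_
  · exact (Ideal.mem_comap.1 h) (IsLocalization.map_units L ⟨t, ht⟩)
  · exact IsLocalRing.notMem_maximalIdeal.1 hb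

/-- A finitely presented module over a localization comes from a finitely presented module. -/
theorem exists_module_model_localization {B L : Type u} [CommRing B] [CommRing L] [Algebra B L] (T : Submonoid B)
    [IsLocalization T L] (M : Type u) [AddCommGroup M] [Module L M] [Module.FinitePresentation L M] :
    ∃ (M₀ : Type u) (_ : AddCommGroup M₀) (_ : Module B M₀), Module.FinitePresentation B M₀ ∧
      Nonempty (L ⊗[B] M₀ ≃ₗ[L] M) := by
  classical
  obtain ⟨m, k, π, g, hπ, hex⟩ := Module.FinitePresentation.exists_fin' L M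
  obtain ⟨t, ht⟩ := IsLocalization.exist_integer_multiples_of_finite T
    fun ji : Fin k × Fin m => g (Pi.single ji.1 1) ji.2
  choose a ha using ht
  let g₀ : (Fin k → B) →ₗ[B] (Fin m → B) := Fintype.linearCombination B fun j i => a (j, i)
  let M₀ := (Fin m → B) ⧸ LinearMap.range g₀
  refine ⟨M₀, inferInstance, inferInstance,
    Module.finitePresentation_of_surjective (LinearMap.range g₀).mkQ (Submodule.mkQ_surjective _)
      (by rw [Submodule.ker_mkQ]; exact Submodule.fg_range g₀), ⟨?_⟩⟩
  let em := TensorProduct.piScalarRight B L L (Fin m)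
  let ek := TensorProduct.piScalarRight B L L (Fin k)
  have h3 : Surjective ((LinearMap.range g₀).mkQ.baseChange L) :=
    LinearMap.lTensor_surjective L (Submodule.mkQ_surjective _)
  have h2 : Exact (g₀.baseChange L) ((LinearMap.range g₀).mkQ.baseChange L) :=
    lTensor_exact L (g := (LinearMap.range g₀).mkQ) (f := g₀)
      (LinearMap.exact_iff.2 (Submodule.ker_mkQ _)) (Submodule.mkQ_surjective _)
  have hsq : ∀ x, em (g₀.baseChange L x) = algebraMap B L t • g (ek x) := by
    have hlin : (em.toLinearMap ∘ₗ g₀.baseChange L) =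
        algebraMap B L t • (g ∘ₗ ek.toLinearMap) := by
      refine TensorProduct.AlgebraTensorModule.ext fun l x => funext fun i => ?_
      simp only [LinearMap.comp_apply, LinearEquiv.coe_coe, LinearMap.baseChange_tmul, em, ek,
        TensorProduct.piScalarRight_apply, TensorProduct.piScalarRightHom_tmul, LinearMap.smul_apply,
        Pi.smul_apply, smul_eq_mul]
      rw [LinearMap.pi_apply_eq_sum_univ g]
      simp only [g₀, Fintype.linearCombination_apply, Finset.sum_apply, Pi.smul_apply, smul_eq_mul,
        Finset.mul_sum, Finset.sum_smul]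
      refine Finset.sum_congr rfl fun j _ => ?_
      have hp : (fun j' : Fin k => if j = j' then (1 : L) else 0) = Pi.single j 1 :=
        funext fun j' => by simp [Pi.single_apply, eq_comm]
      simp only [hp]
      have h := ha (j, i)
      simp only [Algebra.smul_def, map_mul] at h ⊢
      rw [h]
      ring
    intro x
    exact LinearMap.congr_fun hlin x
  have hrange : Submodule.map em.toLinearMap (LinearMap.ker ((LinearMap.range g₀).mkQ.baseChange L)) =
      LinearMap.ker π := by
    rw [h2.linearMap_ker_eq, hex.linearMap_ker_eq, ← LinearMap.range_comp]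
    ext y
    simp only [LinearMap.mem_range, LinearMap.comp_apply, LinearEquiv.coe_coe, hsq]
    constructor
    · rintro ⟨x, rfl⟩
      exact ⟨algebraMap B L t • ek x, map_smul g _ _⟩
    · rintro ⟨x, rfl⟩
      obtain ⟨x, rfl⟩ := ek.surjective x
      refine ⟨((IsLocalization.map_units L t).unit⁻¹ : Lˣ).val • x, ?_⟩
      rw [map_smul, map_smul, smul_smul, IsUnit.mul_val_inv, one_smul]
  exact (((LinearMap.quotKerEquivOfSurjective _ h3).symm.trans
    (Submodule.Quotient.equiv _ _ em hrange)).trans (LinearMap.quotKerEquivOfSurjective π hπ))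

end Groth.Agent.FlatFibrePD
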