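import Mathlib
import Groth.Agent.FlatFibrePD.Dimension

/-!
# Projective dimension of flat finitely presented modules at a point of a fibre
-/

set_option autoImplicit false
set_option synthInstance.maxHeartbeats 80000

universe u

open TensorProduct Function CategoryTheory

namespace Groth.Agent.FlatFibrePD

variable {A B : Type u} [CommRing A] [CommRing B] [Algebra A B]

/-- the local ring of the fibre at `P` -/
abbrev FibLoc (A : Type u) {B : Type u} [CommRing A] [CommRing B] [Algebra A B] (P : Ideal B) [P.IsPrime] : Type u :=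
  Localization.AtPrime P ⧸ (P.under A).map (algebraMap A (Localization.AtPrime P))

variable (P : Ideal B) [P.IsPrime]

theorem lTensor_fibLoc_injective {K F M : Type u} [AddCommGroup K] [Module B K] [Module A K] [IsScalarTower A B K]
    [AddCommGroup F] [Module B F] [Module A F] [IsScalarTower A B F] [AddCommGroup M] [Module B M] [Module A M]
    [IsScalarTower A B M] [Module.Flat A M] {f : K →ₗ[B] F} {g : F →ₗ[B] M} (hf : Injective f) (he : Exact f g)
    (hg : Surjective g) : Injective (f.lTensor (FibLoc A P)) := by
  let p := P.under A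
  let L := B ⊗[A] (A ⧸ p)
  have h0 : Injective (f.lTensor L) := by
    let : Algebra (A ⧸ p) L := Algebra.TensorProduct.rightAlgebra
    exact lTensor_injective_of_pushout (R₀ := A) (R := A ⧸ p) (S := L) hf he hg
  have h1 : Injective (f.lTensor (B ⧸ p.map (algebraMap A B))) := by
    let e := (Algebra.TensorProduct.quotIdealMapEquivTensorQuot B p).toLinearEquiv
    have : e.toLinearMap.rTensor F ∘ₗ f.lTensor _ = f.lTensor L ∘ₗ e.toLinearMap.rTensor K := by
      rw [LinearMap.lTensor_comp_rTensor, LinearMap.rTensor_comp_lTensor]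
    refine Injective.of_comp (f := e.toLinearMap.rTensor F) ?_
    rw [← LinearMap.coe_comp, this]
    exact h0.comp (LinearEquiv.rTensor K e).injective
  let BP := Localization.AtPrime P
  have h2 : Injective (f.lTensor (BP ⊗[B] (B ⧸ p.map (algebraMap A B)))) := by
    rw [LinearMap.lTensor_tensor, LinearMap.coe_comp, LinearMap.coe_comp]
    exact ((LinearEquiv.injective _).comp (Module.Flat.lTensor_preserves_injective_linearMap _ h1)).comp
      (LinearEquiv.injective _)
  have hI : p.map (algebraMap A BP) = (p.map (algebraMap A B)).map (algebraMap B BP) := by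
    rw [Ideal.map_map, ← IsScalarTower.algebraMap_eq]
  let e : FibLoc A P ≃ₗ[B] BP ⊗[B] (B ⧸ p.map (algebraMap A B)) :=
    ((Submodule.quotEquivOfEq _ _ hI).restrictScalars B).trans
      ((Algebra.TensorProduct.quotIdealMapEquivTensorQuot BP (p.map (algebraMap A B))).toLinearEquiv.restrictScalars B)
  have : e.toLinearMap.rTensor F ∘ₗ f.lTensor _ = f.lTensor _ ∘ₗ e.toLinearMap.rTensor K := by
    rw [LinearMap.lTensor_comp_rTensor, LinearMap.rTensor_comp_lTensor]
  refine Injective.of_comp (f := e.toLinearMap.rTensor F) ?_
  rw [← LinearMap.coe_comp, this]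
  exact h2.comp (LinearEquiv.rTensor K e).injective

variable {M : Type u} [AddCommGroup M] [Module B M] [Module A M] [IsScalarTower A B M]

theorem relFlat_of_fibLoc [Module.Flat (FibLoc A P) (FibLoc A P ⊗[B] M)] :
    FlatLocus.RelFlat A (P.comap (algebraMap A B)) B (LocalizedModule P.primeCompl M) := by
  intro X Y _ _ _ _ f hX hY hf
  let BP := Localization.AtPrime P
  let Q := FibLoc A P
  let g : BP ⊗[B] X →ₗ[BP] BP ⊗[B] Y := f.baseChange BP
  have hg : Injective g := Module.Flat.lTensor_preserves_injective_linearMap f hf
  have htor : ∀ (Z : Type u) [AddCommGroup Z] [Module B Z],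
      (∀ r ∈ P.comap (algebraMap A B), ∀ z : Z, algebraMap A B r • z = 0) →
      Module.IsTorsionBySet BP (BP ⊗[B] Z) ((P.under A).map (algebraMap A BP)) := by
    intro Z _ _ hZ w a
    have hle : (P.under A).map (algebraMap A BP) ≤ LinearMap.ker (LinearMap.toSpanSingleton BP _ w) := by
      refine Ideal.map_le_iff_le_comap.2 fun r hr => ?_
      show algebraMap A BP r • w = 0
      rw [IsScalarTower.algebraMap_apply A B BP, algebraMap_smul]
      induction w with
      | zero => simp
      | add x y hx hy => rw [smul_add, hx, hy, add_zero]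
      | tmul l z => rw [← TensorProduct.tmul_smul, hZ r hr, TensorProduct.tmul_zero]
    exact hle a.2
  let : Module Q (BP ⊗[B] X) := (htor X hX).module
  let : Module Q (BP ⊗[B] Y) := (htor Y hY).module
  have tX : IsScalarTower B Q (BP ⊗[B] X) := ⟨fun b c w => by
    obtain ⟨c, rfl⟩ := Ideal.Quotient.mk_surjective c
    show (b • c) • w = b • c • w
    exact smul_assoc b c w⟩
  have tY : IsScalarTower B Q (BP ⊗[B] Y) := ⟨fun b c w => by
    obtain ⟨c, rfl⟩ := Ideal.Quotient.mk_surjective c
    show (b • c) • w = b • c • w
    exact smul_assoc b c w⟩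
  let g' : BP ⊗[B] X →ₗ[Q] BP ⊗[B] Y :=
    { toFun := g
      map_add' := map_add g
      map_smul' := fun c w => by
        obtain ⟨c, rfl⟩ := Ideal.Quotient.mk_surjective c
        exact g.map_smul c w }
  have h1 : Injective ((g'.restrictScalars B).lTensor M) :=
    FlatCrit.lTensor_injective_of_flat_baseChange Q g' hg
  let N := LocalizedModule P.primeCompl M
  let eN : BP ⊗[B] M ≃ₗ[B] N := ((LocalizedModule.equivTensorProduct P.primeCompl M).symm).restrictScalars B
  let sw : ∀ (Z : Type u) [AddCommGroup Z] [Module B Z], N ⊗[B] Z ≃ₗ[B] M ⊗[B] (BP ⊗[B] Z) := fun Z _ _ =>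
    ((LinearEquiv.rTensor Z eN.symm).trans (LinearEquiv.rTensor Z (TensorProduct.comm B BP M))).trans
      (TensorProduct.assoc B M BP Z)
  have key : ∀ z, sw Y (f.lTensor N z) = (g'.restrictScalars B).lTensor M (sw X z) := by
    intro z
    obtain ⟨z, rfl⟩ := (LinearEquiv.rTensor X eN).surjective z
    induction z with
    | zero => simp
    | add a b ha hb => simp only [map_add, ha, hb]
    | tmul t x =>
      induction t with
      | zero => simp
      | add a b ha hb => simp only [TensorProduct.add_tmul, map_add, ha, hb]
      | tmul l m => simp [sw, g', g]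
  intro x y hxy
  exact (sw X).injective (h1 (by rw [← key, ← key, hxy]))

variable [Algebra.FinitePresentation A B] [Module.FinitePresentation B M] [Module.Flat A M]

theorem flat_localized_iff :
    Module.Flat B (LocalizedModule P.primeCompl M) ↔ Module.Projective (FibLoc A P) (FibLoc A P ⊗[B] M) := by
  let BP := Localization.AtPrime P
  constructor
  · intro h
    have h' : Module.Flat BP (BP ⊗[B] M) := by
      have : Module.Flat BP (LocalizedModule P.primeCompl M) :=
        (Module.flat_iff_of_isLocalization BP P.primeCompl _).2 h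
      exact Module.Flat.of_linearEquiv (LocalizedModule.equivTensorProduct P.primeCompl M).symm
    have : Module.Flat (FibLoc A P) (FibLoc A P ⊗[B] M) :=
      Module.Flat.of_linearEquiv
        (TensorProduct.AlgebraTensorModule.cancelBaseChange B BP (FibLoc A P) (FibLoc A P) M).symm
    exact Module.Flat.projective_of_finitePresentation
  · intro h
    cases subsingleton_or_nontrivial (LocalizedModule P.primeCompl M)
    · infer_instance
    · have := flat_localized_of_flat (A := A) (M := M) P.primeCompl
      exact (FlatLocus.fibre_criterion (R := A) (S := B) (S' := B) (M := M) P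
        (relFlat_of_fibLoc P)).1

omit [Algebra.FinitePresentation A B] [Module.FinitePresentation B M] in
theorem fibLoc_step {r : ℕ} [Module.Flat A B] (π : (Fin r → B) →ₗ[B] M) (hπ : Surjective π) (n : ℕ) :
    HasProjectiveDimensionLT (ModuleCat.of (FibLoc A P) (FibLoc A P ⊗[B] M)) (n + 2) ↔
      HasProjectiveDimensionLT (ModuleCat.of (FibLoc A P) (FibLoc A P ⊗[B] LinearMap.ker π)) (n + 1) := by
  let Q := FibLoc A P
  have h1 : Injective ((LinearMap.ker π).subtype.baseChange Q) :=
    lTensor_fibLoc_injective P Subtype.val_injective (LinearMap.exact_subtype_ker_map π) hπ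
  have h2 : Exact ((LinearMap.ker π).subtype.baseChange Q) (π.baseChange Q) :=
    lTensor_exact Q (LinearMap.exact_subtype_ker_map π) hπ
  have h3 : Surjective (π.baseChange Q) := LinearMap.lTensor_surjective Q hπ
  have hS := LinearMap.shortExact_shortComplexKer h3
  let e : Q ⊗[B] LinearMap.ker π ≃ₗ[Q] LinearMap.ker (π.baseChange Q) :=
    (LinearEquiv.ofInjective _ h1).trans (LinearEquiv.ofEq _ _ h2.linearMap_ker_eq.symm)
  let eI : ModuleCat.of Q (Q ⊗[B] LinearMap.ker π) ≅ ModuleCat.of Q (LinearMap.ker (π.baseChange Q)) :=
    e.toModuleIso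
  have hF : Module.Projective Q (Q ⊗[B] (Fin r → B)) := inferInstance
  rw [hS.hasProjectiveDimensionLT_X₃_iff n ((IsProjective.iff_projective _).1 hF)]
  exact ⟨fun _ => hasProjectiveDimensionLT_of_iso eI.symm _, fun _ => hasProjectiveDimensionLT_of_iso eI _⟩

variable (A) in
/-- The locus where the fibre has small projective dimension is open. -/
theorem isOpen_setOf_hasPDLT [Module.Flat A B] (n : ℕ) : ∀ (M : Type u) [AddCommGroup M] [Module B M] [Module A M]
    [IsScalarTower A B M] [Module.FinitePresentation B M] [Module.Flat A M],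
    IsOpen {P : PrimeSpectrum B | HasProjectiveDimensionLT
      (ModuleCat.of (FibLoc A P.asIdeal) (FibLoc A P.asIdeal ⊗[B] M)) (n + 1)} := by
  induction n with
  | zero =>
    intro M _ _ _ _ _ _
    convert Module.isOpen_freeLocus (R := B) (M := M) using 1
    ext P
    rw [Set.mem_ofPred_eq, zero_add, ← projective_iff_hasProjectiveDimensionLT_one,
      ← IsProjective.iff_projective, ← flat_localized_iff P.asIdeal, Module.mem_freeLocus]
    rw [← Module.flat_iff_of_isLocalization (Localization.AtPrime P.asIdeal) P.asIdeal.primeCompl]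
    exact ⟨fun h => Module.free_of_flat_of_isLocalRing, fun h => inferInstance⟩
  | succ n ih =>
    intro M _ _ _ _ _ _
    obtain ⟨r, π, hπ, hfp, hflat⟩ := exists_step A B (M := M)
    convert ih (LinearMap.ker π) using 1
    ext P
    exact fibLoc_step P.asIdeal π hπ n

omit [Algebra.FinitePresentation A B] [Module.Flat A M] in
theorem subsingleton_fibLoc_iff : Subsingleton (FibLoc A P ⊗[B] M) ↔ Subsingleton (LocalizedModule P.primeCompl M) := by
  let BP := Localization.AtPrime P
  let e := TensorProduct.AlgebraTensorModule.cancelBaseChange B BP BP (FibLoc A P) M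
  constructor
  · intro h
    have h' : Subsingleton (FibLoc A P ⊗[BP] (BP ⊗[B] M)) := e.toEquiv.subsingleton
    rw [(LocalizedModule.equivTensorProduct P.primeCompl M).toEquiv.subsingleton_congr]
    have hle : (P.under A).map (algebraMap A BP) ≤ IsLocalRing.maximalIdeal BP := by
      rw [Ideal.map_le_iff_le_comap, IsScalarTower.algebraMap_eq A B BP, ← Ideal.comap_comap]
      intro a ha
      exact (IsLocalization.AtPrime.to_map_mem_maximal_iff BP P _).2 ha
    have h2 : Subsingleton (BP ⊗[B] M ⧸ ((P.under A).map (algebraMap A BP)) • (⊤ : Submodule BP (BP ⊗[B] M))) :=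
      (TensorProduct.quotTensorEquivQuotSMul (BP ⊗[B] M) _).symm.toEquiv.subsingleton
    rw [Submodule.Quotient.subsingleton_iff] at h2
    have h3 := Submodule.eq_bot_of_le_smul_of_le_jacobson_bot _ ⊤ Module.Finite.fg_top h2.ge
      (hle.trans (IsLocalRing.maximalIdeal_le_jacobson _))
    exact subsingleton_iff.2 fun x y => by
      rw [(Submodule.mem_bot BP).1 (h3.le (Submodule.mem_top (x := x))),
        (Submodule.mem_bot BP).1 (h3.le (Submodule.mem_top (x := y)))]
  · intro h
    have : Subsingleton (BP ⊗[B] M) :=
      (LocalizedModule.equivTensorProduct P.primeCompl M).symm.toEquiv.subsingleton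
    exact e.symm.toEquiv.subsingleton

end Groth.Agent.FlatFibrePD
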