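import Mathlib
import Groth.Agent.FlatFibrePD.Dimension
import Groth.Agent.TorShift.Basic

/-!
# Tor dimension and projective dimension of flat finitely presented modules
-/

set_option autoImplicit false

noncomputable section

universe u

open CategoryTheory MonoidalCategory Function

namespace Groth.Agent.FlatFibrePD

variable {R : Type u} [CommRing R] {K F M : Type u} [AddCommGroup K] [Module R K] [AddCommGroup F]
  [Module R F] [AddCommGroup M] [Module R M]

/-- Dimension shifting, upwards. -/
theorem hasTorDimLE_succ_of_exact [Module.Flat R F] {i : K →ₗ[R] F} {π : F →ₗ[R] M} (hi : Injective i)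
    (he : Exact i π) (hπ : Surjective π) {n : ℕ} (h : DRing.HasTorDimLE R n K) :
    DRing.HasTorDimLE R (n + 1) M := by
  intro N _ _ p hp
  obtain ⟨q, rfl⟩ : ∃ q, p = q + 2 := ⟨p - 2, by omega⟩
  let P : ProjectiveResolution (ModuleCat.of R N) := CategoryTheory.projectiveResolution (ModuleCat.of R N)
  haveI hflat : ∀ j, Module.Flat R (P.complex.X j) := fun j =>
    haveI : Module.Projective R (P.complex.X j) := (IsProjective.iff_projective _).2 (P.projective j)
    inferInstance
  have hex : ∀ j, Exact (P.complex.d (j + 2) (j + 1)).hom (P.complex.d (j + 1) j).hom := fun j =>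
    (ShortComplex.ShortExact.moduleCat_exact_iff_function_exact _).1
      ((HomologicalComplex.exactAt_iff' _ (j + 2) (j + 1) j (by simp) (by simp)).1 (P.complex_exactAt_succ j))
  have hKex : Exact ((P.complex.d (q + 2) (q + 1)).hom.lTensor K) ((P.complex.d (q + 1) q).hom.lTensor K) :=
    (TorShift.subsingleton_tor_iff K N P q).1 (h N (q + 1) (by omega))
  have hFex : ∀ j, Exact ((P.complex.d (j + 2) (j + 1)).hom.lTensor F) ((P.complex.d (j + 1) j).hom.lTensor F) :=
    fun j => Module.Flat.lTensor_exact F (hex j)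
  have hinj : ∀ j, Injective (i.rTensor (P.complex.X j)) := fun j =>
    Module.Flat.rTensor_preserves_injective_linearMap i hi
  rw [TorShift.subsingleton_tor_iff M N P (q + 1)]
  have hcomm : ∀ {X Y : Type u} [AddCommGroup X] [Module R X] [AddCommGroup Y] [Module R Y] (g : X →ₗ[R] Y) (j l : ℕ)
      (z : TensorProduct R X (P.complex.X j)), g.rTensor _ ((P.complex.d j l).hom.lTensor X z) =
        (P.complex.d j l).hom.lTensor Y (g.rTensor _ z) := fun g j l z => by
    rw [← LinearMap.comp_apply, ← LinearMap.comp_apply, LinearMap.rTensor_comp_lTensor, LinearMap.lTensor_comp_rTensor]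
  have hd0 : ∀ (X : Type u) [AddCommGroup X] [Module R X] (j : ℕ) (y : TensorProduct R X (P.complex.X (j + 2))),
      (P.complex.d (j + 1) j).hom.lTensor X ((P.complex.d (j + 2) (j + 1)).hom.lTensor X y) = 0 := fun X _ _ j y => by
    rw [← LinearMap.comp_apply, ← LinearMap.lTensor_comp, (hex j).linearMap_comp_eq_zero, LinearMap.lTensor_zero]
    rfl
  intro z
  refine ⟨fun hz => ?_, fun ⟨y, hy⟩ => hy ▸ hd0 M (q + 1) y⟩
  obtain ⟨w, rfl⟩ := LinearMap.rTensor_surjective _ hπ z
  obtain ⟨k, hk⟩ := ((rTensor_exact _ he hπ) ((P.complex.d (q + 2) (q + 1)).hom.lTensor F w)).1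
    (by rw [hcomm]; exact hz)
  have hk0 : (P.complex.d (q + 1) q).hom.lTensor K k = 0 := by
    apply hinj q
    rw [hcomm, hk, hd0 F q, map_zero]
  obtain ⟨k', hk'⟩ := (hKex k).1 hk0
  obtain ⟨v, hv⟩ := ((hFex (q + 1)) (w - i.rTensor _ k')).1
    (by rw [map_sub, ← hcomm, hk', hk, sub_self])
  refine ⟨π.rTensor _ v, ?_⟩
  rw [← hcomm, hv, map_sub]
  have : π.rTensor _ (i.rTensor _ k') = 0 := by
    rw [← LinearMap.comp_apply, ← LinearMap.rTensor_comp, he.linearMap_comp_eq_zero, LinearMap.rTensor_zero]
    rfl
  rw [this, sub_zero]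

theorem hasTorDimLE_zero_of_flat [Module.Flat R M] : DRing.HasTorDimLE R 0 M := by
  intro N _ _ p hp
  obtain ⟨q, rfl⟩ : ∃ q, p = q + 1 := ⟨p - 1, by omega⟩
  let P : ProjectiveResolution (ModuleCat.of R N) := CategoryTheory.projectiveResolution (ModuleCat.of R N)
  rw [TorShift.subsingleton_tor_iff M N P q]
  exact Module.Flat.lTensor_exact M ((ShortComplex.ShortExact.moduleCat_exact_iff_function_exact _).1
    ((HomologicalComplex.exactAt_iff' _ (q + 2) (q + 1) q (by simp) (by simp)).1 (P.complex_exactAt_succ q)))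

variable {A B : Type u} [CommRing A] [CommRing B] [Algebra A B] [Algebra.FinitePresentation A B] [Module.Flat A B]

theorem hasTorDimLE_iff (n : ℕ) : ∀ (M : Type u) [AddCommGroup M] [Module B M] [Module A M]
    [IsScalarTower A B M] [Module.FinitePresentation B M] [Module.Flat A M],
    DRing.HasTorDimLE B n M ↔ HasProjectiveDimensionLT (ModuleCat.of B M) (n + 1) := by
  induction n with
  | zero =>
    intro M _ _ _ _ _ _
    rw [zero_add, ← projective_iff_hasProjectiveDimensionLT_one, ← IsProjective.iff_projective]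
    refine ⟨fun h => ?_, fun _ => hasTorDimLE_zero_of_flat⟩
    have := TorShift.flat_of_hasTorDimLE_zero h
    exact Module.Flat.projective_of_finitePresentation
  | succ n ih =>
    intro M _ _ _ _ _ _
    obtain ⟨r, π, hπ, hfp, hflat⟩ := exists_step A B (M := M)
    have hS := LinearMap.shortExact_shortComplexKer hπ
    rw [hS.hasProjectiveDimensionLT_X₃_iff n ((IsProjective.iff_projective _).1 inferInstance)]
    refine Iff.trans ⟨fun h => ?_, fun h => ?_⟩ (ih (LinearMap.ker π))
    · exact TorShift.hasTorDimLE_of_exact Subtype.val_injective (LinearMap.exact_subtype_ker_map π) hπ h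
    · exact hasTorDimLE_succ_of_exact Subtype.val_injective (LinearMap.exact_subtype_ker_map π) hπ h

theorem subsingleton_of_isZero_tor_zero {M : Type u} [AddCommGroup M] [Module R M]
    (h : Limits.IsZero (((Tor (ModuleCat.{u} R) 0).obj (ModuleCat.of R M)).obj (ModuleCat.of R R))) :
    Subsingleton M := by
  have e : ((Tor (ModuleCat.{u} R) 0).obj (ModuleCat.of R M)).obj (ModuleCat.of R R) ≅
      (MonoidalCategory.tensorLeft (ModuleCat.of R M)).obj (ModuleCat.of R R) :=
    (MonoidalCategory.tensorLeft (ModuleCat.of R M)).leftDerivedZeroIsoSelf.app (ModuleCat.of R R)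
  have h1 := (e.isZero_iff).1 h
  rw [ModuleCat.isZero_iff_subsingleton] at h1
  have h2 : Subsingleton (TensorProduct R M R) := h1
  exact (TensorProduct.rid R M).symm.toEquiv.subsingleton

theorem projectiveDimension_eq_torDim (M : Type u) [AddCommGroup M] [Module B M] [Module A M]
    [IsScalarTower A B M] [Module.FinitePresentation B M] [Module.Flat A M] :
    projectiveDimension (ModuleCat.of B M) = sInf {n : WithBot ℕ∞ | ∀ i : ℕ, n < i → ∀ N : ModuleCat.{u} B,
      Limits.IsZero (((Tor (ModuleCat.{u} B) i).obj (ModuleCat.of B M)).obj N)} := by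
  refine projectiveDimension_eq_of_forall fun n => ?_
  rw [projectiveDimension_lt_iff]
  generalize hS : {n : WithBot ℕ∞ | ∀ i : ℕ, n < i → ∀ N : ModuleCat.{u} B,
    Limits.IsZero (((Tor (ModuleCat.{u} B) i).obj (ModuleCat.of B M)).obj N)} = S
  have hmem : sInf S ∈ S := csInf_mem ⟨⊤, hS ▸ fun i hi => absurd hi not_top_lt⟩
  cases n with
  | succ n =>
    rw [← hasTorDimLE_iff (A := A) n M, Nat.cast_succ, ENat.WithBot.lt_add_one_iff]
    refine ⟨fun h => sInf_le ?_, fun h N _ _ p hp => ?_⟩
    · rw [← hS]
      intro i hi N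
      exact ModuleCat.isZero_iff_subsingleton.2 (h N i (by exact_mod_cast hi))
    · rw [← hS] at hmem
      exact ModuleCat.isZero_iff_subsingleton.1
        (hmem p ((hS.symm ▸ h).trans_lt (by exact_mod_cast hp)) (ModuleCat.of B N))
  | zero =>
    rw [hasProjectiveDimensionLT_zero_iff_isZero, ModuleCat.isZero_iff_subsingleton]
    refine ⟨fun (hM : Subsingleton M) => lt_of_le_of_lt (sInf_le (a := ⊥) ?_) (WithBot.bot_lt_coe _),
      fun h => ?_⟩
    · rw [← hS]
      intro i _ N
      cases i with
      | zero =>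
        refine ((MonoidalCategory.tensorLeft (ModuleCat.of B M)).leftDerivedZeroIsoSelf.app N).isZero_iff.2 ?_
        exact ModuleCat.isZero_iff_subsingleton.2 (inferInstanceAs (Subsingleton (TensorProduct B M N)))
      | succ i =>
        have : Module.Flat B M := inferInstance
        exact ModuleCat.isZero_iff_subsingleton.2
          (hasTorDimLE_zero_of_flat (R := B) (M := M) N (i + 1) (Nat.succ_pos i))
    · rw [← hS] at hmem h
      exact subsingleton_of_isZero_tor_zero (hmem 0 h (ModuleCat.of B B))

end Groth.Agent.FlatFibrePD
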